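import Groth.Agent.SGA3cLib.CentralField
import Groth.Agent.SGA3cLib.CentralFib
import Groth.Agent.SGA3cLib.SubgroupConj
import Groth.Agent.IsoTriv.SchemeBridge
import Mathlib.GroupTheory.Nilpotent

/-!
# Homomorphisms from groups of multiplicative type into connected nilpotent groups are central

For a first order deformation `g` of the origin the commutator `h ↦ [g, h]` again deforms the origin to first order
and lies one step further in the lower central series; by descending induction it commutes with the source, hence is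
a homomorphism, and rigidity makes it trivial.
-/

set_option autoImplicit false
set_option backward.isDefEq.respectTransparency.types false
set_option linter.style.haveILetI false

universe u

open CategoryTheory CategoryTheory.Limits MonoidalCategory CartesianMonoidalCategory MonObj GrpObj AlgebraicGeometry

noncomputable section

namespace Groth.Agent.NilCentral26

open SGA3cLib
open SGA3cLib.Averaging (P sp)
open SGA3cLib.CentralFirst (Comm)

variable {K : Type u} [Field K] {H G : Over (Spec (CommRingCat.of K))} [GrpObj H] [GrpObj G] (u : H ⟶ G) [IsMonHom u]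

theorem first_of_nilpotent (hH : SGA3x.IsMultTypeFT H) (n : ℕ)
    (hn : ∀ X : Over (Spec (CommRingCat.of K)), (⊤ : Subgroup (X ⟶ G)).lowerCentralSeries n = ⊥) :
    ∀ (m j : ℕ), n ≤ j + m → ∀ (A : Type u) [CommRing A] [Algebra K A] (I : Ideal A), I * I = ⊥ →
      ∀ g : P K A ⟶ G, sp (Ideal.Quotient.mkₐ K I) ≫ g = 1 →
        g ∈ (⊤ : Subgroup (P K A ⟶ G)).lowerCentralSeries j → Comm u g := by
  intro m
  induction m with
  | zero =>
    intro j hj A _ _ I hI g hg hmem
    have h1 : g = 1 := by
      rw [← Subgroup.mem_bot, ← hn (P K A)]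
      exact Subgroup.lowerCentralSeries_antitone _ (show n ≤ j by omega) hmem
    intro X' x h
    rw [h1, MonObj.comp_one, _root_.one_mul, _root_.mul_one]
  | succ m ih =>
    intro j hj A _ _ I hI g hg hmem
    let b : Spec (CommRingCat.of A) ⟶ Spec (CommRingCat.of K) := Spec.map (CommRingCat.ofHom (algebraMap K A))
    let HA : Over (Spec (CommRingCat.of A)) := Red.bc b H
    let Sp : Over (Spec (CommRingCat.of A)) := 𝟙_ _
    let i : (Over.map b).obj Sp ⟶ P K A := Over.homMk (𝟙 _) rfl
    haveI : IsAffineHom H.hom := IsoTriv.SchemeBridge.isAffineHom_of_multTypeFT H hH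
    haveI : IsAffineHom HA.hom := inferInstanceAs (IsAffineHom (pullback.snd H.hom b))
    haveI : IsAffine HA.left := isAffine_of_isAffineHom HA.hom
    let τ : (Over.map b).obj HA ⟶ P K A := (Over.map b).map (toUnit HA) ≫ i
    let h₀ : (Over.map b).obj HA ⟶ H := (BCPoints.pt b H HA).symm (𝟙 HA)
    let w₀ : (Over.map b).obj HA ⟶ G := (τ ≫ g) * (h₀ ≫ u) * (τ ≫ g)⁻¹ * (h₀ ≫ u)⁻¹
    -- the commutator as a point with affine source
    let B : CommRingCat.{u} := Γ(HA.left, ⊤)
    let φ : A →+* B := (Spec.preimage (HA.left.isoSpec.inv ≫ HA.hom)).hom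
    letI : Algebra K B := (φ.comp (algebraMap K A)).toAlgebra
    have hφ : Spec.map (CommRingCat.ofHom φ) = HA.left.isoSpec.inv ≫ HA.hom := Spec.map_preimage _
    have hB : Spec.map (CommRingCat.ofHom (algebraMap K B)) = HA.left.isoSpec.inv ≫ HA.hom ≫ b := by
      rw [← Category.assoc, ← hφ, ← Spec.map_comp]
      rfl
    let ε : P K B ⟶ (Over.map b).obj HA := Over.homMk HA.left.isoSpec.inv hB.symm
    let ε' : (Over.map b).obj HA ⟶ P K B := Over.homMk HA.left.isoSpec.hom (by
      show HA.left.isoSpec.hom ≫ Spec.map _ = HA.hom ≫ b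
      rw [hB, Iso.hom_inv_id_assoc])
    have hεε : ε' ≫ ε = 𝟙 _ := Over.OverMorphism.ext (Iso.hom_inv_id _)
    have hw : Comm u w₀ := by
      have hm1 : τ ≫ g ∈ (⊤ : Subgroup ((Over.map b).obj HA ⟶ G)).lowerCentralSeries j := by
        let F : (P K A ⟶ G) →* ((Over.map b).obj HA ⟶ G) := MonoidHom.mk' (τ ≫ ·) fun _ _ => MonObj.comp_mul _ _ _
        have h1 : F g ∈ ((⊤ : Subgroup (P K A ⟶ G)).lowerCentralSeries j).map F := Subgroup.mem_map_of_mem F hmem
        rw [Subgroup.map_lowerCentralSeries] at h1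
        exact Subgroup.lowerCentralSeries_mono j le_top h1
      have hm2 : w₀ ∈ (⊤ : Subgroup ((Over.map b).obj HA ⟶ G)).lowerCentralSeries (j + 1) :=
        Subgroup.commutator_mem_commutator hm1 (Subgroup.mem_top _)
      have hm3 : ε ≫ w₀ ∈ (⊤ : Subgroup (P K B ⟶ G)).lowerCentralSeries (j + 1) := by
        let F : ((Over.map b).obj HA ⟶ G) →* (P K B ⟶ G) := MonoidHom.mk' (ε ≫ ·) fun _ _ => MonObj.comp_mul _ _ _
        have h1 : F w₀ ∈ ((⊤ : Subgroup ((Over.map b).obj HA ⟶ G)).lowerCentralSeries (j + 1)).map F :=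
          Subgroup.mem_map_of_mem F hm2
        rw [Subgroup.map_lowerCentralSeries] at h1
        exact Subgroup.lowerCentralSeries_mono (j + 1) le_top h1
      let χ : A ⧸ I →+* B ⧸ I.map φ := Ideal.Quotient.lift I ((Ideal.Quotient.mk _).comp φ) fun a ha =>
        Ideal.Quotient.eq_zero_iff_mem.mpr (Ideal.mem_map_of_mem φ ha)
      let χ' : A ⧸ I →ₐ[K] B ⧸ I.map φ := { χ with commutes' := fun r => rfl }
      have he : sp (Ideal.Quotient.mkₐ K (I.map φ)) ≫ ε ≫ τ = sp χ' ≫ sp (Ideal.Quotient.mkₐ K I) := by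
        apply Over.OverMorphism.ext
        show Spec.map (CommRingCat.ofHom (Ideal.Quotient.mkₐ K (I.map φ)).toRingHom) ≫ HA.left.isoSpec.inv ≫
            HA.hom ≫ 𝟙 _ = Spec.map (CommRingCat.ofHom χ'.toRingHom) ≫
              Spec.map (CommRingCat.ofHom (Ideal.Quotient.mkₐ K I).toRingHom)
        rw [Category.comp_id, ← hφ, ← Spec.map_comp, ← Spec.map_comp]
        rfl
      have h0 : sp (Ideal.Quotient.mkₐ K (I.map φ)) ≫ ε ≫ w₀ = 1 := by
        simp only [w₀, MonObj.comp_mul, GrpObj.comp_inv, reassoc_of% he, hg, MonObj.comp_one, _root_.one_mul,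
          inv_one, _root_.mul_one, mul_inv_cancel]
      have hI' : I.map φ * I.map φ = ⊥ := by rw [← Ideal.map_mul, hI, Ideal.map_bot]
      have h := ih (j + 1) (by omega) B (I.map φ) hI' (ε ≫ w₀) h0 hm3
      intro X' x h'
      have h2 := h X' (x ≫ ε') h'
      rwa [Category.assoc, reassoc_of% hεε] at h2
    -- the commutator is a homomorphism over `A`
    let w : HA ⟶ Red.bc b G := BCPoints.pt b G HA w₀
    have hpt : ∀ (Y : Over (Spec (CommRingCat.of A))) (y : (Over.map b).obj Y ⟶ H),
        BCPoints.pt b H Y y ≫ w = BCPoints.pt b G Y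
          (((Over.map b).map (toUnit Y) ≫ i ≫ g) * (y ≫ u) * ((Over.map b).map (toUnit Y) ≫ i ≫ g)⁻¹ * (y ≫ u)⁻¹) ∧
        (Over.map b).map (BCPoints.pt b H Y y) ≫ h₀ = y := by
      intro Y y
      have e1 : (Over.map b).map (BCPoints.pt b H Y y) ≫ h₀ = y := (BCPoints.pt b H Y).injective (by
        rw [BCPoints.pt_map_comp, Equiv.apply_symm_apply, Category.comp_id])
      refine ⟨?_, e1⟩
      rw [← BCPoints.pt_map_comp]
      congr 1
      simp only [w₀, τ, MonObj.comp_mul, GrpObj.comp_inv, Category.assoc, reassoc_of% e1]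
      rw [← Functor.map_comp_assoc, toUnit_unique (BCPoints.pt b H Y y ≫ toUnit HA) (toUnit Y)]
    haveI : IsMonHom w := BCPoints.isMonHom_of_mul w fun Y p q => by
      obtain ⟨p, rfl⟩ := (BCPoints.pt b H Y).surjective p
      obtain ⟨q, rfl⟩ := (BCPoints.pt b H Y).surjective q
      have hc := hw _ ((Over.map b).map (BCPoints.pt b H Y q)) p
      have hq := (hpt Y q).2
      simp only [w₀, τ, MonObj.comp_mul, GrpObj.comp_inv, Category.assoc, reassoc_of% hq] at hc
      rw [← Functor.map_comp_assoc, toUnit_unique (BCPoints.pt b H Y q ≫ toUnit HA) (toUnit Y)] at hc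
      rw [← BCPoints.pt_mul, (hpt Y (p * q)).1, (hpt Y p).1, (hpt Y q).1, ← BCPoints.pt_mul, MonObj.mul_comp]
      congr 1
      generalize (Over.map b).map (toUnit Y) ≫ i ≫ g = a at hc ⊢
      generalize p ≫ u = r at hc ⊢
      generalize q ≫ u = s at hc ⊢
      calc a * (r * s) * a⁻¹ * (r * s)⁻¹
          = a * r * a⁻¹ * ((a * s * a⁻¹ * s⁻¹) * r⁻¹) := by group
        _ = a * r * a⁻¹ * (r⁻¹ * (a * s * a⁻¹ * s⁻¹)) := by
              rw [(Commute.inv_right (show Commute (a * s * a⁻¹ * s⁻¹) r from hc)).eq]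
        _ = _ := by group
    have hMT : MultHomLift.IsMT HA := BCPoints.locally_bc b H (CentralFib.locally_of_multTypeFT hH)
    have htriv := SubgroupConj.trivial_of_nilpotent I ⟨2, by rw [pow_two]; exact hI⟩ HA (Red.bc b G) hMT w
      fun Y p y => by
        obtain ⟨y, rfl⟩ := (BCPoints.pt b H Y).surjective y
        let π : (Over.map b).obj Y ⟶ P K (A ⧸ I) := Over.homMk p.left (by
          have := Over.w p
          show p.left ≫ Spec.map (CommRingCat.ofHom (algebraMap K (A ⧸ I))) = Y.hom ≫ b
          rw [← this, Category.assoc]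
          congr 1
          exact Spec.map_comp (CommRingCat.ofHom (algebraMap K A)) (CommRingCat.ofHom (Ideal.Quotient.mk I)))
        have e : (Over.map b).map (toUnit Y) ≫ i = π ≫ sp (Ideal.Quotient.mkₐ K I) := by
          apply Over.OverMorphism.ext
          show (toUnit Y).left ≫ 𝟙 _ = p.left ≫ Spec.map (CommRingCat.ofHom (Ideal.Quotient.mkₐ K I).toRingHom)
          rw [Category.comp_id, ← Category.comp_id (toUnit Y).left]
          exact (Over.w (toUnit Y)).trans (Over.w p).symm
        rw [(hpt Y y).1, reassoc_of% e, hg, MonObj.comp_one, _root_.one_mul, inv_one, _root_.mul_one, mul_inv_cancel]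
        exact SubgroupConj.pt_one b Y
    intro X' x h
    let Y : Over (Spec (CommRingCat.of A)) := Over.mk x.left
    let κ : X' ⟶ (Over.map b).obj Y := Over.homMk (𝟙 _) ((Category.id_comp _).trans (Over.w x))
    let κ' : (Over.map b).obj Y ⟶ X' := Over.homMk (𝟙 _) ((Category.id_comp _).trans (Over.w x).symm)
    have hκ : κ ≫ κ' = 𝟙 X' := Over.OverMorphism.ext (Category.id_comp _)
    have hx : κ ≫ (Over.map b).map (toUnit Y) ≫ i = x := by
      apply Over.OverMorphism.ext
      show 𝟙 _ ≫ x.left ≫ 𝟙 _ = x.left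
      rw [Category.id_comp, Category.comp_id]
    have h2 := htriv Y (BCPoints.pt b H Y (κ' ≫ h))
    rw [(hpt Y (κ' ≫ h)).1, ← SubgroupConj.pt_one b Y] at h2
    have h3 := congrArg (κ ≫ ·) ((BCPoints.pt b G Y).injective h2)
    simp only [MonObj.comp_mul, GrpObj.comp_inv, Category.assoc, reassoc_of% hx, reassoc_of% hκ, MonObj.comp_one] at h3
    exact mul_inv_eq_iff_eq_mul.mp (mul_inv_eq_one.mp h3)

/-- A homomorphism from a group of multiplicative type to a connected nilpotent algebraic group is central. -/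
theorem central_of_nilpotent [LocallyOfFiniteType G.hom] [ConnectedSpace G.left] (hH : SGA3x.IsMultTypeFT H)
    (hn : ∃ n : ℕ, ∀ X : Over (Spec (CommRingCat.of K)), (⊤ : Subgroup (X ⟶ G)).lowerCentralSeries n = ⊥)
    (X : Over (Spec (CommRingCat.of K))) (g : X ⟶ G) (h : X ⟶ H) : g * (h ≫ u) = (h ≫ u) * g := by
  obtain ⟨n, hn⟩ := hn
  have h1 : CentralFirst.First u := fun A _ _ I hI g hg =>
    first_of_nilpotent u hH n hn n 0 (by omega) A I hI g hg (by
      rw [Subgroup.lowerCentralSeries_zero]; trivial)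
  have := CentralFirst.central_of_first u (CentralFib.locally_of_multTypeFT hH) h1 g X (𝟙 X) h
  rwa [Category.id_comp] at this

end Groth.Agent.NilCentral26
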